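import Cfsg.Agent.H610.TF.Nine
import Cfsg.Agent.H611.QF.Sieve
import Cfsg.Agent.H161.Rec.Fi24Facts
import Cfsg.Agent.H133.QS.ResFi
import Cfsg.Agent.H856.TF.No

/-!
# `3.Fi24'`: the degrees of the faithful characters (helper610, for S2491, S2492)

* `DatZ.cases` : the three kinds of characters over a central character;
* `not_both` : a character is not exceptional for the primes 29 and 23;
* `degL` : `DegL π3 64584 201825`.
-/

set_option autoImplicit false
set_option maxRecDepth 100000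
set_option Elab.async false

namespace Cfsg.Agent.H610.TF

open Cfsg Subgroup Cfsg.Agent.Characters Cfsg.Agent.Characters.Core Cfsg.Agent.H113.QS Cfsg.Agent.H65.Ore
open Cfsg.Agent.H52.ThreeFi24 Cfsg.Agent.R08.TThree Cfsg.Agent.H265.TF Cfsg.Agent.H611.QF

universe u v

section Gen

variable {L : Type u} [Group L] [Finite L] {Z : Subgroup L}

theorem cases_datZ {p e t : ℕ} (hp : p.Prime) {x : L} (hx : orderOf x = p) {θ : IrrCharacter Z}
    {NE X : Finset (IrrCharacter L)} (h : DatZ L Z p e t θ NE X) (χ : IrrCharacter L)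
    (hl : Lies Z (θ : Z → ℂ) (χ : L → ℂ)) : χ ∈ NE ∨ χ ∈ X ∨ p ∣ charDegree (χ : L → ℂ) := by
  by_cases h1 : χ ∈ NE
  · exact Or.inl h1
  by_cases h2 : χ ∈ X
  · exact Or.inr (Or.inl h2)
  refine Or.inr (Or.inr ?_)
  have h3 := h.off χ hl h1 h2
  obtain ⟨k, hk⟩ := S0189.card_dvd_degree_of_vanishing (zpowers x) (χ : L → ℂ) (isIrr_isCharacter χ.2) (by
    intro g hg hg1
    apply h3
    have h4 : orderOf g ∣ p := by
      have h5 := orderOf_dvd_natCard (⟨g, hg⟩ : zpowers x)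
      rwa [Nat.card_zpowers, hx, Subgroup.orderOf_mk] at h5
    rcases (Nat.dvd_prime hp).1 h4 with h5 | h5
    · exact absurd (orderOf_eq_one_iff.1 h5) hg1
    · exact h5)
  rw [Nat.card_zpowers, hx, Blocks.Knorr.charDegree_eq χ.2] at hk
  exact ⟨k, by exact_mod_cast hk⟩

variable {K : Type v} [Group K] [Finite K] {π : L →* K}

/-- the residues of the degrees -/
theorem residues [IsSimpleGroup K] (hK : ¬ IsMulCommutative K) (hs : Function.Surjective π) (hc : π.ker ≤ center L)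
    {p : ℕ} (hp : p.Prime) {N : ℕ} (hN : Nat.card K = N) {x₀ : K} (hx : orderOf x₀ = p)
    (hcx : Nat.card (centralizer ({x₀} : Set K)) = p) (hZ : ¬ p ∣ Nat.card π.ker) (e t S : ℕ)
    (hnum : chkSC N p e t S = true) (χ : IrrCharacter L) :
    charDegree (χ : L → ℂ) % p = 0 ∨ charDegree (χ : L → ℂ) % p = 1 ∨ charDegree (χ : L → ℂ) % p = p - 1 ∨
      charDegree (χ : L → ℂ) % p = e ∨ charDegree (χ : L → ℂ) % p = p - e := by
  obtain ⟨θ, hθ⟩ := exists_lies hc χ
  obtain ⟨NE, X, h⟩ := exists_datZ hK hs hc hp hN hx hcx hZ e t S hnum θ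
  obtain ⟨x, hxo, -⟩ := exists_lift hs hp hZ hx
  rcases cases_datZ hp hxo h χ hθ with h1 | h1 | h1
  · have := h.ne_deg χ h1
    omega
  · have := h.x_deg χ h1
    omega
  · exact Or.inl (Nat.mod_eq_zero_of_dvd h1)

/-- **not exceptional for both primes** -/
theorem not_both [IsSimpleGroup K] (hK : ¬ IsMulCommutative K) (hs : Function.Surjective π) (hc : π.ker ≤ center L)
    (hk : Nat.card π.ker = 3) {N : ℕ} (hN : Nat.card K = N) {x₀ y₀ : K} (hx : orderOf x₀ = 29)
    (hcx : Nat.card (centralizer ({x₀} : Set K)) = 29) (hy : orderOf y₀ = 23)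
    (hcy : Nat.card (centralizer ({y₀} : Set K)) = 23) {S S' : ℕ} (h29 : chkSC N 29 14 2 S = true)
    (h23 : chkSC N 23 11 2 S' = true) (χ : IrrCharacter L)
    (h1 : charDegree (χ : L → ℂ) % 29 = 14 ∨ charDegree (χ : L → ℂ) % 29 = 15)
    (h2 : charDegree (χ : L → ℂ) % 23 = 11 ∨ charDegree (χ : L → ℂ) % 23 = 12) : False := by
  have p29 : Nat.Prime 29 := by norm_num
  have p23 : Nat.Prime 23 := by norm_num
  obtain ⟨θ, hθ⟩ := exists_lies hc χ
  obtain ⟨NE, X, h⟩ := exists_datZ hK hs hc p29 hN hx hcx (by rw [hk]; norm_num) 14 2 S h29 θ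
  obtain ⟨NE', X', h'⟩ := exists_datZ hK hs hc p23 hN hy hcy (by rw [hk]; norm_num) 11 2 S' h23 θ
  obtain ⟨x, hxo, -⟩ := exists_lift hs p29 (by rw [hk]; norm_num) hx
  obtain ⟨y, hyo, -⟩ := exists_lift hs p23 (by rw [hk]; norm_num) hy
  have hX : χ ∈ X := by
    rcases cases_datZ p29 hxo h χ hθ with h3 | h3 | h3
    · have := h.ne_deg χ h3
      omega
    · exact h3
    · have := Nat.mod_eq_zero_of_dvd h3
      omega
  have key : ∀ ψ : IrrCharacter L, Lies π.ker (θ : π.ker → ℂ) (ψ : L → ℂ) →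
      (charDegree (ψ : L → ℂ) % 23 = 11 ∨ charDegree (ψ : L → ℂ) % 23 = 12) → ψ ∈ X' := by
    intro ψ hψ hd
    rcases cases_datZ p23 hyo h' ψ hψ with h3 | h3 | h3
    · have := h'.ne_deg ψ h3
      omega
    · exact h3
    · have := Nat.mod_eq_zero_of_dvd h3
      omega
  obtain ⟨Θ, hΘ, hne⟩ := Finset.exists_mem_ne (s := X) (by rw [h.cardX]; norm_num) χ
  have hone : ¬ 29 ∣ orderOf (1 : L) := by rw [orderOf_one]; norm_num
  have hdeg : charDegree (Θ : L → ℂ) = charDegree (χ : L → ℂ) := by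
    have h3 := h.eq_of Θ hΘ χ hX 1 hone
    rw [cast_deg, cast_deg] at h3
    exact_mod_cast h3
  have hΘ' : Θ ∈ X' := key Θ (h.lies Θ (Or.inr hΘ)) (by rw [hdeg]; exact h2)
  have hχ' : χ ∈ X' := key χ hθ h2
  apply hne
  apply Subtype.ext
  funext g
  by_cases hg : 29 ∣ orderOf g
  · refine h'.eq_of Θ hΘ' χ hχ' g fun hg' => ?_
    -- the order of the image
    have h4 : orderOf g ∣ orderOf (π g) * 3 := by
      apply orderOf_dvd_of_pow_eq_one
      have h5 : g ^ orderOf (π g) ∈ π.ker := by rw [MonoidHom.mem_ker, map_pow, pow_orderOf_eq_one]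
      have h6 : (⟨_, h5⟩ : π.ker) ^ 3 = 1 := by rw [← hk, pow_card_eq_one']
      rw [pow_mul]
      exact congrArg Subtype.val h6
    have d29 : 29 ∣ orderOf (π g) := (Nat.Coprime.dvd_of_dvd_mul_right (by norm_num) (hg.trans h4))
    have d23 : 23 ∣ orderOf (π g) := (Nat.Coprime.dvd_of_dvd_mul_right (by norm_num) (hg'.trans h4))
    obtain ⟨k, hk'⟩ := d29
    have hk0 : k ≠ 0 := by
      rintro rfl
      have := orderOf_pos (π g)
      omega
    have h7 : orderOf ((π g) ^ k) = 29 := by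
      rw [orderOf_pow' _ hk0, hk', Nat.gcd_eq_right (dvd_mul_left k 29), Nat.mul_div_cancel _ (Nat.pos_of_ne_zero hk0)]
    obtain ⟨-, -, hall, -⟩ := setupZ hK hs hc p29 hN hx hcx (by rw [hk]; norm_num) 14 2 S h29
    have h8 := hall _ h7
    have h9 : π g ∈ centralizer ({(π g) ^ k} : Set K) := by
      rw [mem_centralizer_singleton_iff]
      exact (Commute.refl (π g)).pow_right k
    have h10 : orderOf (π g) ∣ 29 := by
      have h11 := orderOf_dvd_natCard (⟨π g, h9⟩ : centralizer ({(π g) ^ k} : Set K))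
      rwa [h8, Subgroup.orderOf_mk] at h11
    have h12 : 23 ∣ 29 := d23.trans h10
    norm_num at h12
  · exact h.eq_of Θ hΘ χ hX g hg

end Gen

/-! ### the enumeration -/

/-- the conditions on a degree -/
def tst (n : ℕ) : Bool :=
  Nat.beq (Nat.mod 3765617127571985163878400 n) 0 && Nat.beq (Nat.mod n 9) 0 &&
    (Nat.beq (Nat.mod n 23) 0 || Nat.beq (Nat.mod n 23) 1 || Nat.beq (Nat.mod n 23) 22 || Nat.beq (Nat.mod n 23) 11 ||
      Nat.beq (Nat.mod n 23) 12) && (Nat.beq (Nat.mod n 17) 0 || Nat.beq (Nat.mod n 17) 1 || Nat.beq (Nat.mod n 17) 16) &&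
    (Nat.ble (Nat.mod n 11) 3 || Nat.ble 8 (Nat.mod n 11)) &&
    (Nat.beq (Nat.mod n 13) 0 || Nat.beq (Nat.mod n 13) 3 || Nat.beq (Nat.mod n 13) 10)

def bad (n : ℕ) : Bool := !tst n || Nat.beq n 45747 || Nat.beq n 120393 || Nat.beq n 121176

/-- a loop -/
def loop (f : ℕ → Bool) : ℕ → Bool
  | 0 => true
  | n + 1 => f n && loop f n

theorem of_loop {f : ℕ → Bool} : ∀ {n : ℕ}, loop f n = true → ∀ k < n, f k = true
  | 0, _, k, hk => absurd hk (Nat.not_lt_zero k)
  | n + 1, h, k, hk => by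
    rw [loop, Bool.and_eq_true] at h
    rcases Nat.lt_succ_iff_lt_or_eq.1 hk with h1 | h1
    · exact of_loop h.2 k h1
    · rw [h1]; exact h.1

theorem loopX : loop (fun k => bad (29 * k + 14) && bad (29 * k + 15)) 6959 = true := by decide +kernel
theorem loopN : loop (fun k => !tst (29 * k + 1) && !tst (29 * k + 28)) 2227 = true := by decide +kernel

theorem tst_of {n : ℕ} (h1 : n ∣ 3765617127571985163878400) (h2 : 9 ∣ n)
    (h3 : n % 23 = 0 ∨ n % 23 = 1 ∨ n % 23 = 22 ∨ n % 23 = 11 ∨ n % 23 = 12) (h4 : n % 17 = 0 ∨ n % 17 = 1 ∨ n % 17 = 16)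
    (h5 : n % 11 = 0 ∨ n % 11 = 1 ∨ n % 11 = 2 ∨ n % 11 = 3 ∨ n % 11 = 8 ∨ n % 11 = 9 ∨ n % 11 = 10)
    (h6 : n % 13 = 0 ∨ n % 13 = 3 ∨ n % 13 = 10) : tst n = true := by
  have e1 : Nat.mod 3765617127571985163878400 n = 0 := Nat.mod_eq_zero_of_dvd h1
  have e2 : Nat.mod n 9 = 0 := Nat.mod_eq_zero_of_dvd h2
  unfold tst
  rw [e1, e2]
  change (true && true && (Nat.beq (n % 23) 0 || Nat.beq (n % 23) 1 || Nat.beq (n % 23) 22 || Nat.beq (n % 23) 11 ||
      Nat.beq (n % 23) 12) && (Nat.beq (n % 17) 0 || Nat.beq (n % 17) 1 || Nat.beq (n % 17) 16) &&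
    (Nat.ble (n % 11) 3 || Nat.ble 8 (n % 11)) &&
    (Nat.beq (n % 13) 0 || Nat.beq (n % 13) 3 || Nat.beq (n % 13) 10)) = true
  have f1 : (Nat.beq (n % 23) 0 || Nat.beq (n % 23) 1 || Nat.beq (n % 23) 22 || Nat.beq (n % 23) 11 ||
      Nat.beq (n % 23) 12) = true := by
    rcases h3 with h | h | h | h | h <;> rw [h] <;> rfl
  have f2 : (Nat.beq (n % 17) 0 || Nat.beq (n % 17) 1 || Nat.beq (n % 17) 16) = true := by
    rcases h4 with h | h | h <;> rw [h] <;> rfl
  have f3 : (Nat.ble (n % 11) 3 || Nat.ble 8 (n % 11)) = true := by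
    rcases h5 with h | h | h | h | h | h | h <;> rw [h] <;> rfl
  have f4 : (Nat.beq (n % 13) 0 || Nat.beq (n % 13) 3 || Nat.beq (n % 13) 10) = true := by
    rcases h6 with h | h | h <;> rw [h] <;> rfl
  rw [f1, f2, f3, f4]
  rfl

theorem perm23 {n : ℕ} (h : n % 23 = 0 ∨ n % 23 = 1 ∨ n % 23 = 23 - 1 ∨ n % 23 = 11 ∨ n % 23 = 23 - 11) :
    n % 23 = 0 ∨ n % 23 = 1 ∨ n % 23 = 22 ∨ n % 23 = 11 ∨ n % 23 = 12 := by omega

theorem perm17 {n : ℕ} (h : n % 17 = 0 ∨ n % 17 = 1 ∨ n % 17 = 17 - 1 ∨ n % 17 = 16 ∨ n % 17 = 17 - 16) :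
    n % 17 = 0 ∨ n % 17 = 1 ∨ n % 17 = 16 := by omega

theorem card_L3 : Nat.card L3 = 3765617127571985163878400 := by
  have h1 := Subgroup.card_eq_card_quotient_mul_card_subgroup π3.ker
  rw [Nat.card_congr (QuotientGroup.quotientKerEquivOfSurjective π3 hs3).toEquiv, card_ker_L3,
    Cfsg.Agent.R08.FiTwentyFour.card_commutator] at h1
  rw [h1]

theorem tst_deg (χ : IrrCharacter L3) (hχ : ∃ z ∈ π3.ker, (χ : L3 → ℂ) z ≠ (χ : L3 → ℂ) 1) :
    tst (charDegree (χ : L3 → ℂ)) = true := by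
  have : Finite P3 := card_P3.1
  have : Finite L3 := inferInstanceAs (Finite ↥(_root_.commutator P3))
  have := H48.OreFi.finite'
  have : IsSimpleGroup Spor.Fi24' := R08.FiTwentyFour.isFi24'.1
  obtain ⟨x, hx, hcx⟩ := H161.Rec.FiTF.cent17
  obtain ⟨y, hy, hcy⟩ := H161.Rec.FiTF.cent23
  have r17 := residues H48.OreFi.not_comm hs3 hc3 (p := 17) (by norm_num) Cfsg.Agent.R08.FiTwentyFour.card_commutator
    hx hcx (by rw [card_ker_L3]; norm_num) 16 1 1000000 (by decide +kernel) χ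
  have r23 := residues H48.OreFi.not_comm hs3 hc3 (p := 23) (by norm_num) Cfsg.Agent.R08.FiTwentyFour.card_commutator
    hy hcy (by rw [card_ker_L3]; norm_num) 11 2 1000000 (by decide +kernel) χ
  obtain ⟨r11, r13⟩ := H133.QS.R13L.res χ hχ
  refine tst_of ?_ (nine_dvd χ hχ) (perm23 r23) (perm17 r17) r11 r13
  rw [← card_L3]
  exact Blocks.Knorr.charDegree_dvd χ.2

/-- **the degrees of the faithful characters of `3.Fi24'`** -/
theorem degL : DegL π3 64584 201825 := by
  have : Finite P3 := card_P3.1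
  have : Finite L3 := inferInstanceAs (Finite ↥(_root_.commutator P3))
  have := H48.OreFi.finite'
  have : IsSimpleGroup Spor.Fi24' := R08.FiTwentyFour.isFi24'.1
  refine ⟨fun χ hχ h => ?_, fun χ hχ h => ?_⟩
  · by_contra hlt
    push Not at hlt
    have ht := tst_deg χ hχ
    generalize charDegree (χ : L3 → ℂ) = n at *
    have h1 := of_loop loopN (n / 29) (by omega)
    rw [Bool.and_eq_true, Bool.not_eq_true', Bool.not_eq_true'] at h1
    rcases h with h | h
    · rw [show 29 * (n / 29) + 1 = n by omega, ht] at h1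
      exact Bool.noConfusion h1.1
    · rw [show 29 * (n / 29) + 28 = n by omega, ht] at h1
      exact Bool.noConfusion h1.2
  · by_contra hlt
    push Not at hlt
    have ht := tst_deg χ hχ
    have h45 := H133.QS.ResFi.ne_45747 (fun φ h1 h2 h3 => H856.TF.no45747 h1 h2 h3) χ hχ
    obtain ⟨x, -, hx, hC, -⟩ := H30.IMFi24.exists_x
    obtain ⟨y, hy, hcy⟩ := H161.Rec.FiTF.cent23
    have hnb := not_both H48.OreFi.not_comm hs3 hc3 card_ker_L3 Cfsg.Agent.R08.FiTwentyFour.card_commutator hx hC hy hcy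
      (S := 141) (S' := 1000000) (by decide +kernel) (by decide +kernel) χ h
    generalize charDegree (χ : L3 → ℂ) = n at *
    have h1 := of_loop loopX (n / 29) (by omega)
    rw [Bool.and_eq_true] at h1
    have hb : bad n = true := by
      rcases h with h | h
      · rw [show 29 * (n / 29) + 14 = n by omega] at h1
        exact h1.1
      · rw [show 29 * (n / 29) + 15 = n by omega] at h1
        exact h1.2
    unfold bad at hb
    rw [ht, Bool.not_true, Bool.false_or, Bool.or_eq_true, Bool.or_eq_true] at hb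
    rcases hb with (hb | hb) | hb
    · exact h45 (Nat.eq_of_beq_eq_true hb)
    · have := Nat.eq_of_beq_eq_true hb
      exact hnb (by omega)
    · have := Nat.eq_of_beq_eq_true hb
      exact hnb (by omega)

end Cfsg.Agent.H610.TF
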