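import Cfsg.Agent.H265.TF.Six
import Cfsg.Agent.S0189
import Cfsg.Agent.CharDeep.DegreeBound
import Cfsg.Agent.Blocks.Knorr

/-!
# `3.Fi24'`: nine divides the degrees of the faithful characters (helper610, for S2491, S2492)

* `cube_one`, `commute_comm` : orders and commutation of lifts in a triple cover;
* `nine_dvd_of` : two commuting elements of order 3 generating a fused group;
* `nine` : an elementary abelian group of order 9 of `A9` acting regularly on 9 letters; all its elements are conjugate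
  to `l k b c e f`, which is fused.
-/

set_option autoImplicit false
set_option maxRecDepth 100000
set_option Elab.async false

namespace Cfsg.Agent.H610.TF

open Cfsg Subgroup Cfsg.Agent.H51.Mult Cfsg.Agent.H777.Ore Cfsg.Agent.H265.TF Cfsg.Agent.Characters Cfsg.Agent.Characters.Core
open Cfsg.Spor.Fi24 (Gen)
open Cfsg.Agent.H52.ThreeFi24 Cfsg.Agent.H52.ThreeFi24Chk Cfsg.Agent.R08.TThree
open Cfsg.Agent.Fischer.Fi24Rep (gen word)
open Cfsg.Agent.Fischer.Fi24Spider (word_append word_cons word_nil)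
open Cfsg.Agent.H827.CocoD (word_mem word_reverse)
open Cfsg.Agent.LThreeFi24.FiveConj (eqB eq_of_eqB)

universe u v

section Gen

variable {L : Type u} {K : Type v} [Group L] [Group K] {p : L →* K}

/-- the lifts of an inverted element of order 3 have order 3 -/
theorem cube_one (hs : Function.Surjective p) (hc : p.ker ≤ center L) (hk : Nat.card p.ker = 3) {x g : K}
    (hx : x ^ 3 = 1) (hg : g * x * g⁻¹ = x⁻¹) {X : L} (hX : p X = x) : X ^ 3 = 1 := by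
  have key : ∀ z ∈ p.ker, z ^ 3 = 1 := by
    intro z hz
    have h2 : (⟨z, hz⟩ : p.ker) ^ 3 = 1 := by rw [← hk, pow_card_eq_one']
    exact congrArg Subtype.val h2
  obtain ⟨G, rfl⟩ := hs g
  subst hX
  have h1 : X ^ 3 ∈ p.ker := by rw [MonoidHom.mem_ker, map_pow, hx]
  have hz : G * X * G⁻¹ * X ∈ p.ker := by
    rw [MonoidHom.mem_ker]
    simp only [map_mul, map_inv]
    rw [hg, inv_mul_cancel]
  set z := G * X * G⁻¹ * X with hzd
  have hzc := fun y => mem_center_iff.1 (hc hz) y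
  have e1 : G * X * G⁻¹ = z * X⁻¹ := by rw [hzd]; group
  have hcz : Commute z X⁻¹ := (hzc X⁻¹).symm
  have e2 : G * X ^ 3 * G⁻¹ = (X ^ 3)⁻¹ := by
    calc G * X ^ 3 * G⁻¹ = (G * X * G⁻¹) ^ 3 := by rw [conj_pow]
      _ = z ^ 3 * X⁻¹ ^ 3 := by rw [e1, hcz.mul_pow]
      _ = (X ^ 3)⁻¹ := by rw [key z hz, one_mul, inv_pow]
  have e3 : G * X ^ 3 * G⁻¹ = X ^ 3 := by
    rw [mem_center_iff.1 (hc h1) G, mul_assoc, mul_inv_cancel, mul_one]
  have h4 : X ^ 3 * X ^ 3 = 1 := by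
    nth_rewrite 1 [← e3]
    rw [e2, inv_mul_cancel]
  have h5 := key _ h1
  rw [pow_succ, pow_two, h4, one_mul] at h5
  exact h5

/-- a commutator of elements of the centralizer commutes with all lifts -/
theorem commute_comm (hc : p.ker ≤ center L) {A B X : L} (h1 : Commute (p A) (p X)) (h2 : Commute (p B) (p X)) :
    Commute (A * B * A⁻¹ * B⁻¹) X := by
  have a1 := comm_ker h1
  have a2 := comm_ker h2
  set z := A * X * A⁻¹ * X⁻¹ with hz
  set w := B * X * B⁻¹ * X⁻¹ with hw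
  have hzc := fun y => mem_center_iff.1 (hc a1) y
  have hwc := fun y => mem_center_iff.1 (hc a2) y
  have e1 : A * X = z * X * A := by rw [hz]; group
  have e2 : B * X = w * X * B := by rw [hw]; group
  have e1' : A⁻¹ * X = z⁻¹ * X * A⁻¹ := by
    have : X * A = z⁻¹ * (A * X) := by rw [e1]; group
    calc A⁻¹ * X = A⁻¹ * (X * A) * A⁻¹ := by group
      _ = A⁻¹ * z⁻¹ * (A * X) * A⁻¹ := by rw [this]; group
      _ = z⁻¹ * A⁻¹ * (A * X) * A⁻¹ := by
        have : Commute A⁻¹ z⁻¹ := (show Commute A z from hzc A).inv_inv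
        rw [this.eq]
      _ = _ := by group
  have e2' : B⁻¹ * X = w⁻¹ * X * B⁻¹ := by
    have : X * B = w⁻¹ * (B * X) := by rw [e2]; group
    calc B⁻¹ * X = B⁻¹ * (X * B) * B⁻¹ := by group
      _ = B⁻¹ * w⁻¹ * (B * X) * B⁻¹ := by rw [this]; group
      _ = w⁻¹ * B⁻¹ * (B * X) * B⁻¹ := by
        have : Commute B⁻¹ w⁻¹ := (show Commute B w from hwc B).inv_inv
        rw [this.eq]
      _ = _ := by group
  have cz : ∀ y, Commute z y := fun y => (hzc y).symm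
  have cw : ∀ y, Commute w y := fun y => (hwc y).symm
  show A * B * A⁻¹ * B⁻¹ * X = X * (A * B * A⁻¹ * B⁻¹)
  calc A * B * A⁻¹ * B⁻¹ * X = A * B * A⁻¹ * (B⁻¹ * X) := by group
    _ = A * B * (A⁻¹ * w⁻¹) * X * B⁻¹ := by rw [e2']; group
    _ = A * (B * w⁻¹) * (A⁻¹ * X) * B⁻¹ := by rw [(cw A⁻¹).inv_left.eq.symm]; group
    _ = A * (w⁻¹ * B) * (z⁻¹ * X * A⁻¹) * B⁻¹ := by rw [(cw B).inv_left.eq.symm, e1']
    _ = A * w⁻¹ * (B * z⁻¹) * X * A⁻¹ * B⁻¹ := by group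
    _ = A * w⁻¹ * z⁻¹ * (B * X) * A⁻¹ * B⁻¹ := by rw [(cz B).inv_left.eq.symm]; group
    _ = A * (w⁻¹ * z⁻¹ * w) * X * B * A⁻¹ * B⁻¹ := by rw [e2]; group
    _ = A * z⁻¹ * X * B * A⁻¹ * B⁻¹ := by
      rw [show w⁻¹ * z⁻¹ * w = z⁻¹ by rw [(cw z⁻¹).inv_left.eq, mul_assoc, inv_mul_cancel, mul_one]]
    _ = z⁻¹ * (A * X) * B * A⁻¹ * B⁻¹ := by rw [(cz A).inv_left.eq.symm]; group
    _ = X * (A * B * A⁻¹ * B⁻¹) := by rw [e1]; group

/-- a faithful character vanishes on the lifts of a fused element -/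
theorem zero_of_tri [Finite L] (hs : Function.Surjective p) (hc : p.ker ≤ center L) (hk : Nat.card p.ker = 3)
    (χ : IrrCharacter L) (hχ : ∃ z ∈ p.ker, (χ : L → ℂ) z ≠ (χ : L → ℂ) 1) {c x : K} (h : Tri p c x) {X : L}
    (hX : p X = x) : (χ : L → ℂ) X = 0 := by
  obtain ⟨z, hz, hne⟩ := hχ
  have := Fintype.ofFinite L
  obtain ⟨w, -, hw⟩ := CharDeep.DegreeBound.exists_omega χ.2 (hc hz)
  have h1 := h.fuse hs hc hk hX (MonoidHom.mem_ker.1 hz)
  have h2 : (χ : L → ℂ) (X * z) = (χ : L → ℂ) X := by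
    obtain ⟨a, ha⟩ := isConj_iff.1 h1
    rw [← ha]
    exact (Core.isIrr_isClassFunction χ.2) X a
  rw [hw] at h2
  by_contra h3
  have h4 : w = 1 := by
    have : (w - 1) * (χ : L → ℂ) X = 0 := by rw [sub_mul, h2, one_mul, sub_self]
    rcases mul_eq_zero.1 this with h5 | h5
    · exact sub_eq_zero.1 h5
    · exact absurd h5 h3
  apply hne
  have h5 := hw 1
  rwa [one_mul, h4, one_mul] at h5

/-- the homomorphism from `C3 × C3` given by two commuting elements with `X ^ 3 = 1 = Y ^ 3` -/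
def hom9 {X Y : L} (hX : X ^ 3 = 1) (hY : Y ^ 3 = 1) (h : Commute X Y) :
    Multiplicative (ZMod 3) × Multiplicative (ZMod 3) →* L :=
  MonoidHom.mk' (fun a => X ^ (a.1.toAdd).val * Y ^ (a.2.toAdd).val) (by
    rintro ⟨a, b⟩ ⟨c, d⟩
    have e1 : X ^ ((a * c).toAdd).val = X ^ (a.toAdd).val * X ^ (c.toAdd).val := by
      rw [toAdd_mul, ZMod.val_add, ← pow_add, ← pow_eq_pow_mod _ hX]
    have e2 : Y ^ ((b * d).toAdd).val = Y ^ (b.toAdd).val * Y ^ (d.toAdd).val := by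
      rw [toAdd_mul, ZMod.val_add, ← pow_add, ← pow_eq_pow_mod _ hY]
    show X ^ ((a * c).toAdd).val * Y ^ ((b * d).toAdd).val = _
    rw [e1, e2]
    have e3 : Commute (X ^ (c.toAdd).val) (Y ^ (b.toAdd).val) := h.pow_pow _ _
    calc X ^ (a.toAdd).val * X ^ (c.toAdd).val * (Y ^ (b.toAdd).val * Y ^ (d.toAdd).val) =
        X ^ (a.toAdd).val * (X ^ (c.toAdd).val * Y ^ (b.toAdd).val) * Y ^ (d.toAdd).val := by group
      _ = _ := by rw [e3.eq]; group)

theorem zmod3 (a : ZMod 3) : a.val = 0 ∧ a = 0 ∨ a.val = 1 ∨ a.val = 2 := by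
  fin_cases a
  exacts [Or.inl ⟨rfl, rfl⟩, Or.inr (Or.inl rfl), Or.inr (Or.inr rfl)]

/-- **divisibility by 9** -/
theorem nine_dvd_of [Finite L] (hs : Function.Surjective p) (hc : p.ker ≤ center L) (hk : Nat.card p.ker = 3)
    (χ : IrrCharacter L) (hχ : ∃ z ∈ p.ker, (χ : L → ℂ) z ≠ (χ : L → ℂ) 1) {x y : K} {X Y : L} (hpX : p X = x)
    (hpY : p Y = y) (hX : X ^ 3 = 1) (hY : Y ^ 3 = 1) (hXY : Commute X Y) (f1 : ∃ c, Tri p c x) (f2 : ∃ c, Tri p c y)
    (f3 : ∃ c, Tri p c (x * y)) (f4 : ∃ c, Tri p c (x * y⁻¹)) : 9 ∣ charDegree (χ : L → ℂ) := by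
  have hi : ∀ {k : K}, (∃ c, Tri p c k) → ∃ c, Tri p c k⁻¹ := fun ⟨c, h⟩ => ⟨c, h.inv_right⟩
  have hX' : X ^ 2 = X⁻¹ := eq_inv_of_mul_eq_one_left (by rw [← pow_succ, hX])
  have hY' : Y ^ 2 = Y⁻¹ := eq_inv_of_mul_eq_one_left (by rw [← pow_succ, hY])
  have hxy : Commute x y := by rw [← hpX, ← hpY]; exact hXY.map p
  have hz : ∀ (k : K), (∃ c, Tri p c k) → ∀ Z : L, p Z = k → (χ : L → ℂ) Z = 0 :=
    fun k ⟨c, h⟩ Z hZ => zero_of_tri hs hc hk χ hχ h hZ
  have e4 : (x * y)⁻¹ = x⁻¹ * y⁻¹ := by rw [hxy.eq, mul_inv_rev]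
  have e5 : (x * y⁻¹)⁻¹ = x⁻¹ * y := by rw [hxy.inv_right.eq, mul_inv_rev, inv_inv]
  have hf := hi f3
  have hg := hi f4
  rw [e4] at hf
  rw [e5] at hg
  have hv : ∀ g : Multiplicative (ZMod 3) × Multiplicative (ZMod 3), g ∈ (⊤ : Subgroup _) → g ≠ 1 →
      ((χ : L → ℂ) ∘ hom9 hX hY hXY) g = 0 := by
    rintro ⟨a, b⟩ - hne
    show (χ : L → ℂ) (X ^ (a.toAdd).val * Y ^ (b.toAdd).val) = 0
    rcases zmod3 a.toAdd with ⟨ha, ha'⟩ | ha | ha <;> rcases zmod3 b.toAdd with ⟨hb, hb'⟩ | hb | hb <;> rw [ha, hb]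
    · exfalso
      apply hne
      have h1 : a = 1 := ha'
      have h2 : b = 1 := hb'
      rw [h1, h2]; rfl
    · exact hz _ f2 _ (by rw [pow_zero, one_mul, pow_one, hpY])
    · exact hz _ (hi f2) _ (by rw [pow_zero, one_mul, hY', map_inv, hpY])
    · exact hz _ f1 _ (by rw [pow_zero, mul_one, pow_one, hpX])
    · exact hz _ f3 _ (by rw [pow_one, pow_one, map_mul, hpX, hpY])
    · exact hz _ f4 _ (by rw [pow_one, hY', map_mul, map_inv, hpX, hpY])
    · exact hz _ (hi f1) _ (by rw [pow_zero, mul_one, hX', map_inv, hpX])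
    · exact hz _ hg _ (by rw [pow_one, hX', map_mul, map_inv, hpX, hpY])
    · exact hz _ hf _ (by rw [hX', hY', map_mul, map_inv, map_inv, hpX, hpY])
  obtain ⟨k, hk9⟩ := S0189.card_dvd_degree_of_vanishing (⊤ : Subgroup (Multiplicative (ZMod 3) × Multiplicative (ZMod 3)))
    ((χ : L → ℂ) ∘ hom9 hX hY hXY) (isCharacter_comp _ (isIrr_isCharacter χ.2)) hv
  have h9 : Nat.card (⊤ : Subgroup (Multiplicative (ZMod 3) × Multiplicative (ZMod 3))) = 9 := by
    rw [Subgroup.card_top, Nat.card_prod, Nat.card_eq_fintype_card]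
    rfl
  rw [h9] at hk9
  have h1 : ((χ : L → ℂ) ∘ hom9 hX hY hXY) 1 = charDegree (χ : L → ℂ) := by
    show (χ : L → ℂ) (hom9 hX hY hXY 1) = _
    rw [map_one, Blocks.Knorr.charDegree_eq χ.2]
  rw [h1] at hk9
  exact ⟨k, by exact_mod_cast hk9⟩

end Gen

/-! ### the group -/

def t1 : List Gen := [.a,.k,.b,.l,.a,.c,.k,.b,.a,.j]
def t2 : List Gen := [.d,.c,.e,.b,.d,.f,.c,.e,.d,.j]
def yw : List Gen := [.d,.e,.f,.c,.d,.e,.b,.c,.d,.a,.b,.c,.k,.a,.b,.l,.k,.a]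
def w1 : List Gen := [.d,.e,.a,.b,.c,.d,.b,.k,.a,.j]
def w2 : List Gen := [.e,.f,.c,.d,.e,.a,.b,.c,.d,.a,.b,.k,.a,.j]
def w3 : List Gen := [.f,.b,.c,.d,.e,.a,.b,.c,.d,.c,.b,.k,.a,.j]
def w4 : List Gen := [.l,.b,.e,.j]

theorem chkA : eqB (t1 ++ t2 ++ t1.reverse ++ t2.reverse) yw = true := by decide +kernel
theorem chkB : eqB (t1 ++ X3) (X3 ++ t1) = true := by decide +kernel
theorem chkC : eqB (t2 ++ X3) (X3 ++ t2) = true := by decide +kernel
theorem chkD : eqB (w1 ++ X3 ++ w1.reverse) yw.reverse = true := by decide +kernel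
theorem chkE : eqB (w2 ++ X3 ++ w2.reverse) (yw.reverse ++ X3.reverse) = true := by decide +kernel
theorem chkF : eqB (w3 ++ X3 ++ w3.reverse) (X3 ++ yw.reverse) = true := by decide +kernel
theorem chkG : eqB (w4 ++ X3 ++ w4.reverse) X3.reverse = true := by decide +kernel

theorem comm_of_chk {g w : List Gen} (hg : g.length % 2 = 0) (hw : w.length % 2 = 0) (h : eqB (g ++ w) (w ++ g) = true) :
    Commute (wK g hg) (wK w hw) := by
  apply Subtype.ext
  show word g * word w = word w * word g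
  rw [← word_append, ← word_append, eq_of_eqB h]

theorem conj_of_chk {g w v : List Gen} (hg : g.length % 2 = 0) (hw : w.length % 2 = 0) {k : Spor.Fi24'}
    (h : eqB (g ++ w ++ g.reverse) v = true) (hk : (k : Spor.Fi24) = word v) : wK g hg * wK w hw * (wK g hg)⁻¹ = k := by
  apply Subtype.ext
  show word g * word w * (word g)⁻¹ = k
  rw [hk, ← eq_of_eqB h, word_append, word_append, word_reverse]

/-- **9 divides the degrees of the faithful characters of the triple cover.** -/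
theorem nine_dvd (χ : IrrCharacter L3) (hχ : ∃ z ∈ π3.ker, (χ : L3 → ℂ) z ≠ (χ : L3 → ℂ) 1) :
    9 ∣ charDegree (χ : L3 → ℂ) := by
  have : Finite P3 := card_P3.1
  have : Finite L3 := inferInstanceAs (Finite ↥(_root_.commutator P3))
  obtain ⟨A, hA⟩ := hs3 (wK t1 rfl)
  obtain ⟨B, hB⟩ := hs3 (wK t2 rfl)
  obtain ⟨X, hX⟩ := hs3 (wK X3 rfl)
  have hY : π3 (A * B * A⁻¹ * B⁻¹) = wK yw rfl := by
    simp only [map_mul, map_inv]
    rw [hA, hB]
    apply Subtype.ext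
    show word t1 * word t2 * (word t1)⁻¹ * (word t2)⁻¹ = word yw
    rw [← eq_of_eqB chkA]
    simp only [word_append, word_reverse]
  have x3 : (wK X3 rfl) ^ 3 = 1 := cube_wK rfl cube3
  have hinv : wK w4 rfl * wK X3 rfl * (wK w4 rfl)⁻¹ = (wK X3 rfl)⁻¹ := by
    refine conj_of_chk rfl rfl chkG ?_
    rw [word_reverse]; rfl
  have hconj : wK w1 rfl * wK X3 rfl * (wK w1 rfl)⁻¹ = (wK yw rfl)⁻¹ := by
    refine conj_of_chk rfl rfl chkD ?_
    rw [word_reverse]; rfl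
  have hconj' : wK yw rfl = wK w1 rfl * (wK X3 rfl)⁻¹ * (wK w1 rfl)⁻¹ := by
    rw [← inv_inv (wK yw rfl), ← hconj]; group
  have y3 : (wK yw rfl) ^ 3 = 1 := by
    rw [hconj', conj_pow, inv_pow, x3, inv_one, mul_one, mul_inv_cancel]
  have hinvy : (wK w1 rfl * wK w4 rfl * (wK w1 rfl)⁻¹) * wK yw rfl * (wK w1 rfl * wK w4 rfl * (wK w1 rfl)⁻¹)⁻¹ =
      (wK yw rfl)⁻¹ := by
    rw [hconj']
    have h5 : wK w4 rfl * (wK X3 rfl)⁻¹ * (wK w4 rfl)⁻¹ = wK X3 rfl := by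
      have h6 := congrArg (fun k => k⁻¹) hinv
      simp only [mul_inv_rev, inv_inv] at h6
      rw [mul_assoc]; exact h6
    calc (wK w1 rfl * wK w4 rfl * (wK w1 rfl)⁻¹) * (wK w1 rfl * (wK X3 rfl)⁻¹ * (wK w1 rfl)⁻¹) *
        (wK w1 rfl * wK w4 rfl * (wK w1 rfl)⁻¹)⁻¹ =
        wK w1 rfl * (wK w4 rfl * (wK X3 rfl)⁻¹ * (wK w4 rfl)⁻¹) * (wK w1 rfl)⁻¹ := by group
      _ = _ := by rw [h5]; group
  have hXY : Commute X (A * B * A⁻¹ * B⁻¹) :=
    (commute_comm hc3 (by rw [hA, hX]; exact comm_of_chk rfl rfl chkB)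
      (by rw [hB, hX]; exact comm_of_chk rfl rfl chkC)).symm
  refine nine_dvd_of hs3 hc3 card_ker_L3 χ hχ hX hY (cube_one hs3 hc3 card_ker_L3 x3 hinv hX)
    (cube_one hs3 hc3 card_ker_L3 y3 hinvy hY) hXY ⟨_, tri3⟩ ?_ ?_ ?_
  · have h1 := (tri3.conj hs3 (wK w1 rfl)).inv_right
    rw [hconj, inv_inv] at h1
    exact ⟨_, h1⟩
  · have h1 := (tri3.conj hs3 (wK w2 rfl)).inv_right
    rw [conj_of_chk rfl rfl chkE (k := (wK X3 rfl * wK yw rfl)⁻¹) (by
      rw [word_append, word_reverse, word_reverse, mul_inv_rev]; rfl), inv_inv] at h1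
    exact ⟨_, h1⟩
  · have h1 := tri3.conj hs3 (wK w3 rfl)
    rw [conj_of_chk rfl rfl chkF (k := wK X3 rfl * (wK yw rfl)⁻¹) (by
      rw [word_append, word_reverse]; rfl)] at h1
    exact ⟨_, h1⟩

end Cfsg.Agent.H610.TF
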